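/-
Kernels of stem extensions with elementary abelian Sylow 3-subgroup of rank 2, and fibre products.

Main results: `exists_bound_of_commuting`, `card_closure_pair`, `exists_surj_six`, `fibre`.
-/
import Cfsg.Agent.Lib.Schur.Basic

set_option autoImplicit false
set_option linter.style.haveILetI false

open scoped commutatorElement

namespace Cfsg.Agent.CoverSixSeven

universe u v

variable {Γ : Type u} [Group Γ]

/-- With `a, b` generating modulo the centre and `⁅a, b⁆` central, the derived group is cyclic. -/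
theorem commutator_le_zpowers {a b : Γ} (hgen : Subgroup.closure {a, b} ⊔ Subgroup.center Γ = ⊤)
    (hc : ⁅a, b⁆ ∈ Subgroup.center Γ) : commutator Γ ≤ Subgroup.zpowers ⁅a, b⁆ := by
  have hle : Subgroup.zpowers ⁅a, b⁆ ≤ Subgroup.center Γ := Subgroup.zpowers_le.2 hc
  haveI : (Subgroup.zpowers ⁅a, b⁆).Normal := ⟨fun x hx g => by
    rwa [(Subgroup.mem_center_iff.1 (hle hx)) g, mul_inv_cancel_right]⟩
  let π := QuotientGroup.mk' (Subgroup.zpowers ⁅a, b⁆)
  have hab : Commute (π a) (π b) := by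
    refine commutatorElement_eq_one_iff_mul_comm.1 ?_
    rw [← map_commutatorElement]
    exact (QuotientGroup.eq_one_iff _).2 (Subgroup.mem_zpowers _)
  have hgen' : ∀ S : Subgroup Γ, a ∈ S → b ∈ S → Subgroup.center Γ ≤ S → S = ⊤ := by
    intro S ha hb hS
    refine top_le_iff.1 (hgen ▸ sup_le ((Subgroup.closure_le _).2 ?_) hS)
    rintro x (rfl | rfl) <;> assumption
  have hcen : ∀ z ∈ Subgroup.center Γ, ∀ g, Commute (π g) (π z) := fun z hz g =>
    Commute.map ((Subgroup.mem_center_iff.1 hz) g) π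
  have hall : ∀ c : Γ, (c = a ∨ c = b) → ∀ g, Commute (π g) (π c) := by
    intro c hc' g
    have : (Subgroup.centralizer {π c}).comap π = ⊤ := hgen' _
      (Subgroup.mem_centralizer_singleton_iff.2 (by rcases hc' with rfl | rfl; exacts [rfl, hab.eq]))
      (Subgroup.mem_centralizer_singleton_iff.2 (by rcases hc' with rfl | rfl; exacts [hab.eq.symm, rfl]))
      (fun z hz => Subgroup.mem_centralizer_singleton_iff.2 (hcen z hz c).eq.symm)
    exact Subgroup.mem_centralizer_singleton_iff.1 (show g ∈ _ from this ▸ Subgroup.mem_top g)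
  rw [commutator_def, Subgroup.commutator_le]
  intro x _ y _
  have : (Subgroup.centralizer {π x}).comap π = ⊤ := hgen' _
    (Subgroup.mem_centralizer_singleton_iff.2 (hall a (Or.inl rfl) x).eq.symm)
    (Subgroup.mem_centralizer_singleton_iff.2 (hall b (Or.inr rfl) x).eq.symm)
    (fun z hz => Subgroup.mem_centralizer_singleton_iff.2 (hcen z hz x).eq.symm)
  have hxy : Commute (π y) (π x) :=
    Subgroup.mem_centralizer_singleton_iff.1 (show y ∈ _ from this ▸ Subgroup.mem_top y)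
  rw [← QuotientGroup.eq_one_iff]
  show π ⁅x, y⁆ = 1
  rw [map_commutatorElement]
  exact commutatorElement_eq_one_iff_mul_comm.2 hxy.symm.eq

section stem

variable {G : Type v} [Group G] [Finite Γ] {σ : Γ →* G}

/-- A subgroup of index prime to `p` generated by two commuting elements, one of order dividing `n`,
bounds the `p`-part by a cyclic group of order dividing `n`. -/
theorem exists_bound_of_commuting (hσ : Cfsg.IsStemExtension σ) {p n : ℕ} (hp : p.Prime) (r s : G)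
    (hrs : r * s = s * r) (hr : r ^ n = 1) (hQ : ¬ p ∣ (Subgroup.closure {r, s}).index) :
    ∃ c : Γ, ∀ (k : ℕ) (z : Γ), z ∈ σ.ker → z ^ p ^ k = 1 →
      z ∈ Subgroup.zpowers c ∧ z ^ n = 1 := by
  obtain ⟨a, rfl⟩ := hσ.1 r
  obtain ⟨b, rfl⟩ := hσ.1 s
  refine ⟨⁅a, b⁆, fun k z hz hord => ?_⟩
  obtain ⟨hzH, hmem⟩ := Schur.mem_commutator_comap hσ hp _ hQ hz hord
  set H := (Subgroup.closure {σ a, σ b}).comap σ with hH
  have haH : a ∈ H := Subgroup.subset_closure (Set.mem_insert _ _)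
  have hbH : b ∈ H := Subgroup.subset_closure (Set.mem_insert_of_mem _ rfl)
  have hcen : ∀ x ∈ σ.ker, ∀ hx : x ∈ H, (⟨x, hx⟩ : ↥H) ∈ Subgroup.center ↥H := by
    intro x hxk hx
    rw [Subgroup.mem_center_iff]
    exact fun y => Subtype.ext ((Subgroup.mem_center_iff.1 (hσ.2.1 hxk)) y)
  have hgen : Subgroup.closure {(⟨a, haH⟩ : ↥H), ⟨b, hbH⟩} ⊔ Subgroup.center ↥H = ⊤ := by
    rw [eq_top_iff]
    rintro ⟨x, hx⟩ -
    have hle : (Subgroup.closure {a, b}) ≤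
        (Subgroup.closure {(⟨a, haH⟩ : ↥H), ⟨b, hbH⟩}).map H.subtype := by
      rw [MonoidHom.map_closure, Set.image_pair]; rfl
    have hx' : σ x ∈ (Subgroup.closure {a, b}).map σ := by
      rw [MonoidHom.map_closure, Set.image_pair]; exact hx
    obtain ⟨y, hy, hyx⟩ := hx'
    obtain ⟨y', hy', rfl⟩ := hle hy
    have hk : (y' : Γ)⁻¹ * x ∈ σ.ker := by
      rw [MonoidHom.mem_ker, map_mul, map_inv, inv_mul_eq_one]
      exact hyx
    have : (⟨x, hx⟩ : ↥H) = y' * (y'⁻¹ * ⟨x, hx⟩) := (mul_inv_cancel_left _ _).symm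
    rw [this]
    exact Subgroup.mul_mem_sup hy' (hcen _ hk (y'⁻¹ * ⟨x, hx⟩ : ↥H).2)
  have hker : ⁅a, b⁆ ∈ σ.ker := by
    rw [MonoidHom.mem_ker, map_commutatorElement]
    exact commutatorElement_eq_one_iff_mul_comm.2 hrs
  have hcH : ⁅(⟨a, haH⟩ : ↥H), (⟨b, hbH⟩ : ↥H)⁆ ∈ Subgroup.center ↥H := by
    refine hcen ⁅a, b⁆ hker ?_
  obtain ⟨m, hm⟩ := Subgroup.mem_zpowers_iff.1 (commutator_le_zpowers hgen hcH hmem)
  have hm' : ⁅a, b⁆ ^ m = z := congrArg Subtype.val hm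
  have hc : ∀ g : Γ, g * ⁅a, b⁆ = ⁅a, b⁆ * g := fun g => (Subgroup.mem_center_iff.1 (hσ.2.1 hker)) g
  have hpow : ∀ j : ℕ, a ^ j * b * (a ^ j)⁻¹ = ⁅a, b⁆ ^ j * b := by
    intro j
    induction j with
    | zero => simp
    | succ j ih =>
      have hcj : Commute a (⁅a, b⁆ ^ j) := Commute.pow_right (hc a) j
      have h1 : a * b * a⁻¹ = ⁅a, b⁆ * b := by rw [commutatorElement_def]; group
      calc a ^ (j + 1) * b * (a ^ (j + 1))⁻¹ = a * (a ^ j * b * (a ^ j)⁻¹) * a⁻¹ := by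
            rw [pow_succ', mul_inv_rev]; simp only [mul_assoc]
        _ = ⁅a, b⁆ ^ j * (a * b * a⁻¹) := by rw [ih, ← mul_assoc, hcj.eq]; simp only [mul_assoc]
        _ = _ := by rw [h1, ← mul_assoc, ← pow_succ]
  have hn1 : ⁅a, b⁆ ^ n = 1 := by
    have h := hpow n
    have han : a ^ n ∈ Subgroup.center Γ := hσ.2.1 (by rw [MonoidHom.mem_ker, map_pow, hr])
    rw [← (Subgroup.mem_center_iff.1 han) b, mul_inv_cancel_right] at h
    exact right_eq_mul.1 h
  refine ⟨Subgroup.mem_zpowers_iff.2 ⟨m, hm'⟩, ?_⟩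
  rw [← hm', ← zpow_natCast, ← zpow_mul, mul_comm, zpow_mul, zpow_natCast, hn1, one_zpow]

/-- Elements of square one in a cyclic group coincide when non-trivial. -/
theorem eq_of_mem_zpowers {c x y : Γ} {p : ℕ} [hp : Fact p.Prime] (hx : x ∈ Subgroup.zpowers c)
    (hy : y ∈ Subgroup.zpowers c) (hx1 : x ^ p = 1) (hy1 : y ^ p = 1) (hne : x ≠ 1) :
    y ∈ Subgroup.zpowers x := by
  have hox := orderOf_eq_prime hx1 hne
  have hle : Subgroup.zpowers x ≤ Subgroup.zpowers c := Subgroup.zpowers_le.2 hx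
  rcases eq_or_ne y 1 with rfl | hy'
  · exact one_mem _
  have hoy := orderOf_eq_prime hy1 hy'
  have : (⟨y, hy⟩ : Subgroup.zpowers c) ∈ Subgroup.zpowers (⟨x, hx⟩ : Subgroup.zpowers c) := by
    classical
    haveI := Fintype.ofFinite (Subgroup.zpowers c)
    set x' : Subgroup.zpowers c := ⟨x, hx⟩
    set S := Finset.univ.filter (fun a : Subgroup.zpowers c => a ^ p = 1)
    have hsub : (Subgroup.zpowers x' : Set (Subgroup.zpowers c)).toFinset ⊆ S := fun a ha => by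
      rw [Set.mem_toFinset, SetLike.mem_coe, Subgroup.mem_zpowers_iff] at ha
      obtain ⟨i, rfl⟩ := ha
      refine Finset.mem_filter.2 ⟨Finset.mem_univ _, ?_⟩
      rw [← zpow_natCast, ← zpow_mul, mul_comm, zpow_mul, zpow_natCast,
        show x' ^ p = 1 from Subtype.ext hx1, one_zpow]
    have heq := Finset.eq_of_subset_of_card_le hsub (by
      refine le_trans (IsCyclic.card_pow_eq_one_le hp.out.pos) (le_of_eq ?_)
      rw [← Set.ncard_eq_toFinset_card', ← Nat.card_coe_set_eq]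
      exact (hox.symm.trans ((Subgroup.orderOf_mk x hx).symm.trans (Nat.card_zpowers x').symm)))
    have hyS : (⟨y, hy⟩ : Subgroup.zpowers c) ∈ S :=
      Finset.mem_filter.2 ⟨Finset.mem_univ _, Subtype.ext hy1⟩
    rw [← heq, Set.mem_toFinset] at hyS
    exact hyS
  obtain ⟨i, hi⟩ := Subgroup.mem_zpowers_iff.1 this
  exact Subgroup.mem_zpowers_iff.2 ⟨i, congrArg Subtype.val hi⟩

/-- If the 2-part is `≤ 2`, the 3-part `≤ 3` and the rest trivial, the kernel is an image of `ℤ/6`. -/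
theorem exists_surj_six (hσ : Cfsg.IsStemExtension σ)
    (h2 : ∃ c : Γ, ∀ (k : ℕ) (z : Γ), z ∈ σ.ker → z ^ 2 ^ k = 1 → z ∈ Subgroup.zpowers c ∧ z ^ 2 = 1)
    (h3 : ∃ c : Γ, ∀ (k : ℕ) (z : Γ), z ∈ σ.ker → z ^ 3 ^ k = 1 → z ∈ Subgroup.zpowers c ∧ z ^ 3 = 1)
    (h5 : ∀ p : ℕ, p.Prime → 5 ≤ p → ∀ (k : ℕ) (z : Γ), z ∈ σ.ker → z ^ p ^ k = 1 → z = 1) :
    ∃ π : Multiplicative (ZMod 6) →* σ.ker, Function.Surjective π := by
  classical
  obtain ⟨c₂, h2⟩ := h2
  obtain ⟨c₃, h3⟩ := h3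
  haveI := Fact.mk Nat.prime_two
  haveI := Fact.mk Nat.prime_three
  have hex : ∀ (p : ℕ) [Fact p.Prime] (c : Γ), (∀ (k : ℕ) (z : Γ), z ∈ σ.ker → z ^ p ^ k = 1 →
      z ∈ Subgroup.zpowers c ∧ z ^ p = 1) →
      ∃ g ∈ σ.ker, g ^ p = 1 ∧ ∀ (k : ℕ) (z : Γ), z ∈ σ.ker → z ^ p ^ k = 1 → z ∈ Subgroup.zpowers g := by
    intro p _ c h
    by_cases hne : ∃ g ∈ σ.ker, g ≠ 1 ∧ g ^ p = 1
    · obtain ⟨g, hg, hg1, hgp⟩ := hne
      refine ⟨g, hg, hgp, fun k z hz hzk => ?_⟩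
      obtain ⟨a1, a2⟩ := h k z hz hzk
      exact eq_of_mem_zpowers (h 1 g hg (by rwa [pow_one])).1 a1 hgp a2 hg1
    · push Not at hne
      refine ⟨1, one_mem _, one_pow _, fun k z hz hzk => ?_⟩
      by_contra hz1
      exact hne z hz (fun e => hz1 (by rw [e]; exact one_mem _)) (h k z hz hzk).2
  obtain ⟨g₂, hg2, hg2p, hall2⟩ := hex 2 c₂ h2
  obtain ⟨g₃, hg3, hg3p, hall3⟩ := hex 3 c₃ h3
  have hcomm : Commute g₂ g₃ := (Subgroup.mem_center_iff.1 (hσ.2.1 hg3)) g₂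
  set g := g₂ * g₃
  have hgker : g ∈ σ.ker := mul_mem hg2 hg3
  have hg6 : g ^ 6 = 1 := by
    rw [hcomm.mul_pow, show (6 : ℕ) = 2 * 3 from rfl, pow_mul, hg2p, one_pow, one_mul, mul_comm 2 3,
      pow_mul, hg3p, one_pow]
  have hg2mem : g₂ ∈ Subgroup.zpowers g := by
    have : g ^ 3 = g₂ := by
      rw [hcomm.mul_pow, hg3p, mul_one, pow_succ, hg2p, one_mul]
    exact this ▸ pow_mem (Subgroup.mem_zpowers g) 3
  have hg3mem : g₃ ∈ Subgroup.zpowers g := by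
    have : g ^ 4 = g₃ := by
      rw [hcomm.mul_pow, show g₂ ^ 4 = 1 by rw [show (4 : ℕ) = 2 * 2 from rfl, pow_mul, hg2p, one_pow],
        one_mul, pow_succ, hg3p, one_mul]
    exact this ▸ pow_mem (Subgroup.mem_zpowers g) 4
  have hle : σ.ker ≤ Subgroup.zpowers g := Schur.le_of_primary fun p hp k z hz hzk => by
    rcases lt_or_ge p 5 with h | h
    · obtain rfl | rfl : p = 2 ∨ p = 3 := by
        have := hp.two_le
        rcases hp.eq_two_or_odd with h' | h'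
        · exact Or.inl h'
        · right; omega
      · exact Subgroup.zpowers_le.2 hg2mem (hall2 k z hz hzk)
      · exact Subgroup.zpowers_le.2 hg3mem (hall3 k z hz hzk)
    · rw [h5 p hp h k z hz hzk]; exact one_mem _
  let gk : σ.ker := ⟨g, hgker⟩
  have hgk : gk ^ 6 = 1 := Subtype.ext hg6
  let f : ℤ →+ Additive σ.ker := zmultiplesHom _ (Additive.ofMul gk)
  have hf : f 6 = 0 := by
    show Additive.ofMul (gk ^ (6 : ℤ)) = 0
    rw [show gk ^ (6 : ℤ) = 1 from (zpow_natCast gk 6).trans hgk]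
    rfl
  refine ⟨AddMonoidHom.toMultiplicativeLeft (ZMod.lift 6 ⟨f, hf⟩), fun x => ?_⟩
  obtain ⟨i, hi⟩ := Subgroup.mem_zpowers_iff.1 (hle x.2)
  refine ⟨Multiplicative.ofAdd (i : ZMod 6), ?_⟩
  show Additive.toMul (ZMod.lift 6 ⟨f, hf⟩ (i : ZMod 6)) = x
  rw [ZMod.lift_coe]
  exact Subtype.ext (show g ^ i = (x : Γ) from hi)

end stem

section fibre

variable {G : Type v} [Group G] {Γ₁ Γ₂ : Type*} [Group Γ₁] [Group Γ₂]
  (σ₁ : Γ₁ →* G) (σ₂ : Γ₂ →* G)

/-- The fibre product. -/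
def Fib : Subgroup (Γ₁ × Γ₂) :=
  MonoidHom.eqLocus (σ₁.comp (MonoidHom.fst Γ₁ Γ₂)) (σ₂.comp (MonoidHom.snd Γ₁ Γ₂))

theorem mem_fib {x : Γ₁ × Γ₂} : x ∈ Fib σ₁ σ₂ ↔ σ₁ x.1 = σ₂ x.2 := Iff.rfl

/-- The kernels of two stem extensions of coprime orders lie in the derived group of the fibre product. -/
theorem mem_commutator_fib [Finite Γ₂] (h₁ : Cfsg.IsStemExtension σ₁) (h₂ : Function.Surjective σ₂)
    (hcop : Nat.Coprime (Nat.card σ₁.ker) (Nat.card σ₂.ker)) {k : Γ₁} (hk : k ∈ σ₁.ker) :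
    (⟨(k, 1), (mem_fib σ₁ σ₂).2 (by rw [map_one]; exact hk)⟩ : Fib σ₁ σ₂) ∈ commutator (Fib σ₁ σ₂) := by
  let π : Fib σ₁ σ₂ →* Γ₁ := (MonoidHom.fst Γ₁ Γ₂).comp (Fib σ₁ σ₂).subtype
  have hπ : Function.Surjective π := fun a => by
    obtain ⟨b, hb⟩ := h₂ (σ₁ a)
    exact ⟨⟨(a, b), hb.symm⟩, rfl⟩
  have h3 : k ∈ (commutator (Fib σ₁ σ₂)).map π := by
    rw [commutator_def, Subgroup.map_commutator, Subgroup.map_top_of_surjective π hπ]
    exact h₁.2.2 hk
  obtain ⟨y, hy, hyk⟩ := h3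
  have hy2 : y.1.2 ∈ σ₂.ker := by
    rw [MonoidHom.mem_ker, ← (mem_fib σ₁ σ₂).1 y.2, show y.1.1 = k from hyk]
    exact hk
  set m := Nat.card σ₂.ker
  have hym : y.1.2 ^ m = 1 := congrArg Subtype.val (pow_card_eq_one' (x := (⟨y.1.2, hy2⟩ : σ₂.ker)))
  have hco : Nat.Coprime m (orderOf k) :=
    hcop.symm.coprime_dvd_right (by
      have := orderOf_dvd_natCard (⟨k, hk⟩ : σ₁.ker)
      rwa [Subgroup.orderOf_mk] at this)
  obtain ⟨j, hj⟩ := exists_pow_eq_self_of_coprime hco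
  have : (⟨(k, 1), (mem_fib σ₁ σ₂).2 (by rw [map_one]; exact hk)⟩ : Fib σ₁ σ₂) = (y ^ m) ^ j := by
    refine Subtype.ext (Prod.ext ?_ ?_)
    · show k = ((y.1.1) ^ m) ^ j
      rw [show y.1.1 = k from hyk, hj]
    · show 1 = ((y.1.2) ^ m) ^ j
      rw [hym, one_pow]
  rw [this]
  exact pow_mem (pow_mem hy m) j

end fibre

end Cfsg.Agent.CoverSixSeven
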