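/-
 The triple cover of A7 on 45 points: Moore generators up to a central element of order 3.
-/
import Cfsg.Agent.EqLemmas

set_option autoImplicit false
set_option maxRecDepth 20000

namespace Cfsg.Agent.CoverSixSeven

/-- Permutation data. -/
def g0 : Equiv.Perm (Fin 45) where
  toFun := ![29, 30, 37, 14, 11, 24, 17, 43, 44, 33, 18, 16, 25, 3, 13, 23, 4, 20, 34, 9, 6, 38, 40, 26, 27, 28, 15, 5, 12, 32, 31, 1, 0, 19, 10, 8, 7, 42, 39, 21, 41, 22, 2, 36, 35]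
  invFun := ![32, 31, 42, 13, 16, 27, 20, 36, 35, 19, 34, 4, 28, 14, 3, 26, 11, 6, 10, 33, 17, 39, 41, 15, 5, 12, 23, 24, 25, 0, 1, 30, 29, 9, 18, 44, 43, 2, 21, 38, 22, 40, 37, 7, 8]
  left_inv := by intro i; revert i; decide +kernel
  right_inv := by intro i; revert i; decide +kernel

/-- Permutation data. -/
def g1 : Equiv.Perm (Fin 45) where
  toFun := ![2, 1, 0, 5, 4, 3, 7, 6, 8, 10, 9, 11, 13, 12, 15, 14, 16, 18, 17, 20, 19, 32, 29, 27, 28, 26, 25, 23, 24, 22, 30, 31, 21, 43, 36, 35, 34, 39, 41, 37, 42, 38, 40, 33, 44]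
  invFun := ![2, 1, 0, 5, 4, 3, 7, 6, 8, 10, 9, 11, 13, 12, 15, 14, 16, 18, 17, 20, 19, 32, 29, 27, 28, 26, 25, 23, 24, 22, 30, 31, 21, 43, 36, 35, 34, 39, 41, 37, 42, 38, 40, 33, 44]
  left_inv := by intro i; revert i; decide +kernel
  right_inv := by intro i; revert i; decide +kernel

/-- Permutation data. -/
def g2 : Equiv.Perm (Fin 45) where
  toFun := ![1, 0, 2, 4, 3, 5, 6, 8, 7, 19, 18, 13, 12, 11, 16, 15, 14, 20, 10, 9, 17, 21, 22, 26, 27, 28, 23, 24, 25, 31, 32, 29, 30, 33, 34, 43, 44, 42, 39, 38, 41, 40, 37, 35, 36]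
  invFun := ![1, 0, 2, 4, 3, 5, 6, 8, 7, 19, 18, 13, 12, 11, 16, 15, 14, 20, 10, 9, 17, 21, 22, 26, 27, 28, 23, 24, 25, 31, 32, 29, 30, 33, 34, 43, 44, 42, 39, 38, 41, 40, 37, 35, 36]
  left_inv := by intro i; revert i; decide +kernel
  right_inv := by intro i; revert i; decide +kernel

/-- Permutation data. -/
def g3 : Equiv.Perm (Fin 45) where
  toFun := ![28, 35, 24, 18, 31, 17, 37, 39, 16, 22, 29, 11, 13, 12, 38, 41, 8, 5, 3, 19, 20, 32, 9, 23, 2, 43, 33, 27, 0, 10, 30, 4, 21, 26, 36, 1, 34, 6, 14, 7, 40, 15, 42, 25, 44]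
  invFun := ![28, 35, 24, 18, 31, 17, 37, 39, 16, 22, 29, 11, 13, 12, 38, 41, 8, 5, 3, 19, 20, 32, 9, 23, 2, 43, 33, 27, 0, 10, 30, 4, 21, 26, 36, 1, 34, 6, 14, 7, 40, 15, 42, 25, 44]
  left_inv := by intro i; revert i; decide +kernel
  right_inv := by intro i; revert i; decide +kernel

/-- Permutation data. -/
def g4 : Equiv.Perm (Fin 45) where
  toFun := ![0, 1, 2, 3, 4, 5, 6, 7, 8, 10, 9, 16, 15, 14, 13, 12, 11, 20, 19, 18, 17, 22, 21, 28, 27, 26, 25, 24, 23, 32, 31, 30, 29, 34, 33, 44, 43, 42, 41, 40, 39, 38, 37, 36, 35]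
  invFun := ![0, 1, 2, 3, 4, 5, 6, 7, 8, 10, 9, 16, 15, 14, 13, 12, 11, 20, 19, 18, 17, 22, 21, 28, 27, 26, 25, 24, 23, 32, 31, 30, 29, 34, 33, 44, 43, 42, 41, 40, 39, 38, 37, 36, 35]
  left_inv := by intro i; revert i; decide +kernel
  right_inv := by intro i; revert i; decide +kernel

/-- Permutation data. -/
def z3 : Equiv.Perm (Fin 45) where
  toFun := ![3, 4, 5, 7, 8, 6, 2, 0, 1, 41, 38, 44, 34, 36, 43, 33, 35, 37, 39, 40, 42, 12, 15, 19, 17, 10, 9, 20, 18, 14, 11, 16, 13, 22, 21, 31, 32, 24, 25, 28, 23, 26, 27, 29, 30]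
  invFun := ![7, 8, 6, 0, 1, 2, 5, 3, 4, 26, 25, 30, 21, 32, 29, 22, 31, 24, 28, 23, 27, 34, 33, 40, 37, 38, 41, 42, 39, 43, 44, 35, 36, 15, 12, 16, 13, 17, 10, 18, 19, 9, 20, 14, 11]
  left_inv := by intro i; revert i; decide +kernel
  right_inv := by intro i; revert i; decide +kernel

/-- The generators. -/
def gen : ℕ → Equiv.Perm (Fin 45)
  | 0 => g0
  | 1 => g1
  | 2 => g2
  | 3 => g3
  | 4 => g4
  | _ => 1

theorem commute_gen : ∀ i, Commute (gen i) z3 := by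
  intro i
  match i with
  | 0 | 1 | 2 | 3 | 4 => exact Equiv.ext (by decide +kernel)
  | _ + 5 => exact Commute.one_left _

theorem z3_cube : z3 ^ 3 = 1 := Equiv.ext (by decide +kernel)

theorem z3_ne : z3 ≠ 1 := fun h => absurd (Equiv.ext_iff.1 h 0) (by decide +kernel)

theorem cube_gen : gen 0 ^ 3 = 1 := Equiv.ext (by decide +kernel)

theorem sq_gen : ∀ i, 1 ≤ i → i < 5 → gen i ^ 2 = 1 := by
  intro i h1 h2
  interval_cases i <;> exact Equiv.ext (by decide +kernel)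

theorem adj_gen : ∀ i, i + 1 < 5 → (gen i * gen (i + 1)) ^ 3 = 1 := by
  intro i h
  have : i < 4 := by omega
  interval_cases i <;> exact Equiv.ext (by decide +kernel)

theorem far_gen : ∀ i j, i + 1 < j → j < 5 → (gen i * gen j) ^ 2 ∈ Subgroup.zpowers z3 := by
  intro i j h1 h2
  have : i < 3 := by omega
  have h : (gen i * gen j) ^ 2 = 1 ∨ (gen i * gen j) ^ 2 = z3 := by
    interval_cases j <;> interval_cases i <;>
      first
      | omega
      | exact Or.inl (Equiv.ext (by decide +kernel))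
      | exact Or.inr (Equiv.ext (by decide +kernel))
  rcases h with h | h <;> rw [h]
  exacts [one_mem _, Subgroup.mem_zpowers _]

theorem not_commute_gen : gen 0 * (gen 2 * gen 3) ≠ gen 2 * gen 3 * gen 0 := fun h =>
  absurd (fun i => Equiv.ext_iff.1 h i) (by decide +kernel)

end Cfsg.Agent.CoverSixSeven
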