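/-
Triple covers of the alternating groups of degree 6 and 7.

Main result: `exists_triple_cover`.
-/
import Cfsg.Agent.S3335
import Cfsg.Agent.Lib.CoverSixSeven.Perm45

set_option autoImplicit false
set_option linter.style.haveILetI false

namespace Cfsg.Agent.CoverSixSeven

open scoped commutatorElement

/-- The relators of Moore's presentation. -/
abbrev rels (n : ℕ) : Set (FreeGroup (Fin (n - 2))) :=
  {g : FreeGroup (Fin (n - 2)) | ∃ i : Fin (n - 2), i.val = 0 ∧ g = FreeGroup.of i ^ 3} ∪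
       {g | ∃ i : Fin (n - 2), 1 ≤ i.val ∧ g = FreeGroup.of i ^ 2} ∪
       {g | ∃ i j : Fin (n - 2), j.val = i.val + 1 ∧ g = (FreeGroup.of i * FreeGroup.of j) ^ 3} ∪
       {g | ∃ i j : Fin (n - 2), i.val + 1 < j.val ∧ g = (FreeGroup.of i * FreeGroup.of j) ^ 2}

/-- The centralizer of the central element. -/
abbrev Amb : Subgroup (Equiv.Perm (Fin 45)) := Subgroup.centralizer {z3}

/-- The group of order 3. -/
abbrev Zc : Subgroup Amb := (Subgroup.zpowers z3).subgroupOf Amb

instance zc_normal : Zc.Normal := ⟨fun x hx g => by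
  rw [Subgroup.mem_subgroupOf] at hx ⊢
  obtain ⟨m, hm⟩ := Subgroup.mem_zpowers_iff.1 hx
  have h1 : Commute (g : Equiv.Perm (Fin 45)) z3 := Subgroup.mem_centralizer_singleton_iff.1 g.2
  refine Subgroup.mem_zpowers_iff.2 ⟨m, ?_⟩
  rw [Subgroup.coe_mul, Subgroup.coe_mul, InvMemClass.coe_inv, ← hm, (h1.zpow_right m).eq,
    mul_inv_cancel_right]⟩

/-- A generator in the centralizer. -/
def amb (i : ℕ) : Amb := ⟨gen i, Subgroup.mem_centralizer_singleton_iff.2 (commute_gen i).eq⟩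

theorem amb_rel {y : Amb} (h : (y : Equiv.Perm (Fin 45)) ∈ Subgroup.zpowers z3) :
    (y : Amb ⧸ Zc) = 1 :=
  (QuotientGroup.eq_one_iff _).2 (Subgroup.mem_subgroupOf.2 h)

theorem rels_hold {n : ℕ} (hn : n ≤ 7) : ∀ r ∈ rels n,
    FreeGroup.lift (fun i : Fin (n - 2) => ((amb i : Amb) : Amb ⧸ Zc)) r = 1 := by
  rintro r (((⟨i, hi, rfl⟩ | ⟨i, hi, rfl⟩) | ⟨i, j, hij, rfl⟩) | ⟨i, j, hij, rfl⟩) <;>
    simp only [map_pow, map_mul, FreeGroup.lift_apply_of, ← QuotientGroup.mk_mul,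
      ← QuotientGroup.mk_pow] <;> apply amb_rel <;>
    simp only [Subgroup.coe_mul, SubgroupClass.coe_pow, amb]
  · rw [hi, cube_gen]; exact one_mem _
  · rw [sq_gen i hi (by omega)]; exact one_mem _
  · rw [hij, adj_gen i (by omega)]; exact one_mem _
  · exact far_gen i j hij (by omega)

/-- `A_6` and `A_7` have stem extensions with kernel of order 3. -/
theorem exists_triple_cover (n : ℕ) (hn : n = 6 ∨ n = 7) :
    ∃ (Γ : Type) (_ : Group Γ) (_ : Finite Γ) (σ : Γ →* alternatingGroup (Fin n)),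
      Cfsg.IsStemExtension σ ∧ Nat.card σ.ker = 3 := by
  obtain ⟨e⟩ := S3335.result n (by omega)
  haveI : Finite (PresentedGroup (rels n)) := Finite.of_equiv _ e.symm.toEquiv
  let φ : PresentedGroup (rels n) →* Amb ⧸ Zc := PresentedGroup.toGroup (rels_hold (n := n) (by omega))
  let P : Subgroup (Amb × PresentedGroup (rels n)) :=
    MonoidHom.eqLocus ((QuotientGroup.mk' Zc).comp (MonoidHom.fst Amb (PresentedGroup (rels n))))
      (φ.comp (MonoidHom.snd Amb (PresentedGroup (rels n))))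
  have hP : ∀ x : Amb × PresentedGroup (rels n), x ∈ P ↔ (x.1 : Amb ⧸ Zc) = φ x.2 := fun _ => Iff.rfl
  let σ : P →* alternatingGroup (Fin n) :=
    e.toMonoidHom.comp ((MonoidHom.snd Amb (PresentedGroup (rels n))).comp P.subtype)
  have hker : ∀ x : P, x ∈ σ.ker ↔ x.1.2 = 1 := fun x =>
    ⟨fun h => e.injective (h.trans (map_one e).symm), fun h => by
      show e x.1.2 = 1
      rw [h, map_one]⟩
  let ι : ↥σ.ker → Zc := fun x => ⟨x.1.1.1, by
    have h1 := (hP _).1 x.1.2
    rw [(hker x.1).1 x.2, map_one] at h1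
    exact (QuotientGroup.eq_one_iff _).1 h1⟩
  have hι : Function.Bijective ι := by
    refine ⟨fun x y h => Subtype.ext (Subtype.ext (Prod.ext (congrArg Subtype.val h) ?_)), fun z => ?_⟩
    · rw [(hker x.1).1 x.2, (hker y.1).1 y.2]
    · exact ⟨⟨⟨((z : Amb), 1), (hP _).2 (by rw [map_one]; exact (QuotientGroup.eq_one_iff _).2 z.2)⟩,
        (hker _).2 rfl⟩, rfl⟩
  have hcard : Nat.card σ.ker = 3 := by
    rw [Nat.card_congr (Equiv.ofBijective ι hι)]
    have h1 : Subgroup.zpowers z3 ≤ Amb :=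
      Subgroup.zpowers_le.2 (Subgroup.mem_centralizer_singleton_iff.2 rfl)
    rw [Nat.card_congr (Subgroup.subgroupOfEquivOfLe h1).toEquiv, Nat.card_zpowers]
    exact orderOf_eq_prime z3_cube z3_ne
  have hcen : σ.ker ≤ Subgroup.center P := fun x hx => Subgroup.mem_center_iff.2 fun g => by
    have hz : ((x.1.1 : Amb) : Equiv.Perm (Fin 45)) ∈ Subgroup.zpowers z3 := (ι ⟨x, hx⟩).2
    obtain ⟨m, hm⟩ := Subgroup.mem_zpowers_iff.1 hz
    refine Subtype.ext (Prod.ext (Subtype.ext ?_) ?_)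
    · have hc : Commute ((g.1.1 : Amb) : Equiv.Perm (Fin 45)) z3 :=
        Subgroup.mem_centralizer_singleton_iff.1 g.1.1.2
      have := (hc.zpow_right m).eq
      rw [hm] at this
      exact this
    · show g.1.2 * x.1.2 = x.1.2 * g.1.2
      rw [(hker x).1 hx, mul_one, one_mul]
  refine ⟨P, inferInstance, inferInstance, σ, ⟨?_, hcen, ?_⟩, hcard⟩
  · intro y
    obtain ⟨a, ha⟩ := QuotientGroup.mk_surjective (φ (e.symm y))
    exact ⟨⟨(a, e.symm y), (hP _).2 ha⟩, e.apply_symm_apply y⟩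
  -- the commutator of two lifts
  let i0 : Fin (n - 2) := ⟨0, by omega⟩
  let i2 : Fin (n - 2) := ⟨2, by omega⟩
  let i3 : Fin (n - 2) := ⟨3, by omega⟩
  have hof : ∀ i : Fin (n - 2), φ (PresentedGroup.of i) = ((amb i : Amb) : Amb ⧸ Zc) :=
    fun i => PresentedGroup.toGroup.of (rels_hold (n := n) (by omega))
  let u : P := ⟨(amb 0, PresentedGroup.of i0), (hP _).2 (hof i0).symm⟩
  let v : P := ⟨(amb 2 * amb 3, PresentedGroup.of i2 * PresentedGroup.of i3), (hP _).2 (by
    rw [map_mul, hof, hof, QuotientGroup.mk_mul])⟩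
  have hA : ∀ r ∈ rels n, PresentedGroup.mk (rels n) r = 1 := fun r hr => PresentedGroup.one_of_mem hr
  have hcomm : PresentedGroup.of (rels := rels n) i0 * (PresentedGroup.of i2 * PresentedGroup.of i3) =
      PresentedGroup.of i2 * PresentedGroup.of i3 * PresentedGroup.of i0 := by
    have r02 := hA _ (Or.inr ⟨i0, i2, by simp [i0, i2], rfl⟩)
    have r03 := hA _ (Or.inr ⟨i0, i3, by simp [i0, i3], rfl⟩)
    have r2 := hA _ (Or.inl (Or.inl (Or.inr ⟨i2, by simp [i2], rfl⟩)))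
    have r3 := hA _ (Or.inl (Or.inl (Or.inr ⟨i3, by simp [i3], rfl⟩)))
    simp only [map_pow, map_mul] at r02 r03 r2 r3
    change (PresentedGroup.of i0 * PresentedGroup.of i2) ^ 2 = 1 at r02
    change (PresentedGroup.of i0 * PresentedGroup.of i3) ^ 2 = 1 at r03
    change PresentedGroup.of i2 ^ 2 = 1 at r2
    change PresentedGroup.of i3 ^ 2 = 1 at r3
    generalize PresentedGroup.of (rels := rels n) i0 = a at *
    generalize PresentedGroup.of (rels := rels n) i2 = b at *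
    generalize PresentedGroup.of (rels := rels n) i3 = c at *
    have hb := S3335.inv_eq_self r2
    have hc := S3335.inv_eq_self r3
    have e1 := S3335.inv_eq_self r02
    have e2 := S3335.inv_eq_self r03
    rw [mul_inv_rev, hb] at e1
    rw [mul_inv_rev, hc] at e2
    calc a * (b * c) = (a * b) * c := (mul_assoc _ _ _).symm
      _ = b * (a⁻¹ * c) := by rw [← e1, mul_assoc]
      _ = b * (c * (c * a⁻¹) * c) := by
          rw [← mul_assoc c c, ← pow_two, r3, one_mul]
      _ = b * (c * (a * c) * c) := by rw [e2]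
      _ = b * c * a := by rw [← mul_assoc c a, mul_assoc (c * a), ← pow_two, r3, mul_one, mul_assoc]
  have hmem : ⁅u, v⁆ ∈ σ.ker := (hker _).2 (commutatorElement_eq_one_iff_mul_comm.2 hcomm)
  have hne : (⟨⁅u, v⁆, hmem⟩ : σ.ker) ≠ 1 := fun h => not_commute_gen (by
    have h2 : ((⁅u, v⁆.1.1 : Amb) : Equiv.Perm (Fin 45)) = 1 :=
      congrArg (fun x : σ.ker => ((x.1.1.1 : Amb) : Equiv.Perm (Fin 45))) h
    exact commutatorElement_eq_one_iff_mul_comm.1 h2)
  haveI := Fact.mk Nat.prime_three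
  have htop := zpowers_eq_top_of_prime_card hcard hne
  intro x hx
  have hx' : (⟨x, hx⟩ : σ.ker) ∈ Subgroup.zpowers (⟨⁅u, v⁆, hmem⟩ : σ.ker) := htop ▸ Subgroup.mem_top _
  obtain ⟨m, hm⟩ := Subgroup.mem_zpowers_iff.1 hx'
  have hm' : ⁅u, v⁆ ^ m = x := congrArg Subtype.val hm
  rw [← hm']
  exact Subgroup.zpow_mem _ (Subgroup.commutator_mem_commutator (Subgroup.mem_top _) (Subgroup.mem_top _)) _

end Cfsg.Agent.CoverSixSeven
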