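/-
Schur multipliers of the alternating groups of degree 6 and 7.

Main results: `exists_surj_alt`, `exists_six_cover`, `hasCyclicSchurMultiplier_six`.
-/
import Cfsg.Agent.Lib.CoverSixSeven.Bound
import Cfsg.Agent.Lib.CoverSixSeven.Triple
import Cfsg.Agent.Lib.DoubleCoverAlt.Basic

set_option autoImplicit false
set_option linter.style.haveILetI false

namespace Cfsg.Agent.CoverSixSeven

universe u

/-- Two elements in normal form generate a group of order `m * n`. -/
theorem card_closure_pair {G : Type*} [Group G] [Finite G] {r s : G} {m n k : ℕ} (hr : r ^ m = 1)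
    (hs : s ^ n = 1) (hm : 0 < m) (hn : 0 < n) (hsr : s * r = r ^ k * s)
    (hinj : Function.Injective fun p : Fin m × Fin n => r ^ (p.1 : ℕ) * s ^ (p.2 : ℕ)) :
    Nat.card (Subgroup.closure {r, s}) = m * n := by
  classical
  set F := fun p : Fin m × Fin n => r ^ (p.1 : ℕ) * s ^ (p.2 : ℕ)
  have hmem : ∀ i j : ℕ, r ^ i * s ^ j ∈ Set.range F := fun i j =>
    ⟨(⟨i % m, Nat.mod_lt _ hm⟩, ⟨j % n, Nat.mod_lt _ hn⟩), by
      show r ^ (i % m) * s ^ (j % n) = r ^ i * s ^ j
      rw [← pow_eq_pow_mod i hr, ← pow_eq_pow_mod j hs]⟩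
  have hsr' : ∀ j i : ℕ, ∃ l, s ^ j * r ^ i = r ^ l * s ^ j := by
    have h1 : ∀ i : ℕ, s * r ^ i = r ^ (k * i) * s := by
      intro i
      induction i with
      | zero => simp
      | succ i ih =>
        rw [pow_succ, ← mul_assoc, ih, mul_assoc, hsr, ← mul_assoc, ← pow_add, Nat.mul_succ]
    intro j
    induction j with
    | zero => exact fun i => ⟨i, by simp⟩
    | succ j ih =>
      intro i
      obtain ⟨l, hl⟩ := ih i
      exact ⟨k * l, by rw [pow_succ', mul_assoc, hl, ← mul_assoc, h1, mul_assoc]⟩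
  have hclosed : ∀ x ∈ Set.range F, ∀ y ∈ Set.range F, x * y ∈ Set.range F := by
    rintro _ ⟨⟨a, b⟩, rfl⟩ _ ⟨⟨c, d⟩, rfl⟩
    obtain ⟨l, hl⟩ := hsr' b c
    have : F (a, b) * F (c, d) = r ^ ((a : ℕ) + l) * s ^ ((b : ℕ) + d) := by
      show r ^ (a : ℕ) * s ^ (b : ℕ) * (r ^ (c : ℕ) * s ^ (d : ℕ)) = _
      rw [← mul_assoc, mul_assoc (r ^ (a : ℕ)), hl, ← mul_assoc, ← pow_add, mul_assoc, ← pow_add]
    rw [this]
    exact hmem _ _
  have hset : (Subgroup.closure {r, s} : Set G) = Set.range F := by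
    refine Set.Subset.antisymm (fun x hx => ?_) ?_
    · rw [SetLike.mem_coe, ← Subgroup.mem_toSubmonoid, Subgroup.closure_toSubmonoid_of_finite] at hx
      induction hx using Submonoid.closure_induction with
      | mem y hy =>
        rcases hy with rfl | rfl
        · simpa using hmem 1 0
        · simpa using hmem 0 1
      | one => simpa using hmem 0 0
      | mul y z _ _ hy hz => exact hclosed y hy z hz
    · rintro _ ⟨p, rfl⟩
      have h1 : r ∈ Subgroup.closure ({r, s} : Set G) := Subgroup.subset_closure (Set.mem_insert r {s})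
      have h2 : s ∈ Subgroup.closure ({r, s} : Set G) :=
        Subgroup.subset_closure (Set.mem_insert_of_mem r (Set.mem_singleton s))
      show r ^ (p.1 : ℕ) * s ^ (p.2 : ℕ) ∈ Subgroup.closure ({r, s} : Set G)
      exact mul_mem (pow_mem h1 _) (pow_mem h2 _)
  refine (Nat.card_congr (Equiv.setCongr hset)).trans ?_
  rw [Nat.card_range_of_injective hinj, Nat.card_prod, Nat.card_fin, Nat.card_fin]

theorem not_dvd_index {G : Type*} [Group G] [Finite G] {H : Subgroup G} {a N p : ℕ}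
    (hG : Nat.card G = N) (hH : Nat.card H = a) (ha : 0 < a) (hp : ¬ p ∣ N / a) : ¬ p ∣ H.index := by
  have h := H.card_mul_index
  rw [hG, hH] at h
  rwa [← h, Nat.mul_div_cancel_left _ ha] at hp

/-- An element of the alternating group given by a parity check. -/
abbrev alt {n : ℕ} (g : Equiv.Perm (Fin n)) (h : Equiv.Perm.sign g = 1) : alternatingGroup (Fin n) :=
  ⟨g, Equiv.Perm.mem_alternatingGroup.2 h⟩

theorem card_alt_six : Nat.card (alternatingGroup (Fin 6)) = 360 := by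
  rw [nat_card_alternatingGroup, Nat.card_fin]; rfl

theorem card_alt_seven : Nat.card (alternatingGroup (Fin 7)) = 2520 := by
  rw [nat_card_alternatingGroup, Nat.card_fin]; rfl

theorem exists_surj_of_data {G : Type*} [Group G] [Finite G] {N : ℕ} (hN : Nat.card G = N)
    (r₂ s₂ r₃ s₃ : G) (hr₂ : r₂ ^ 4 = 1) (hs₂ : s₂ ^ 2 = 1) (hrs₂ : s₂ * r₂ = r₂ ^ 3 * s₂)
    (hi₂ : Function.Injective fun p : Fin 4 × Fin 2 => r₂ ^ (p.1 : ℕ) * s₂ ^ (p.2 : ℕ))
    (h2 : ¬ 2 ∣ N / 8) (hr₃ : r₃ ^ 3 = 1) (hs₃ : s₃ ^ 3 = 1) (hrs₃ : r₃ * s₃ = s₃ * r₃)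
    (hi₃ : Function.Injective fun p : Fin 3 × Fin 3 => r₃ ^ (p.1 : ℕ) * s₃ ^ (p.2 : ℕ))
    (h3 : ¬ 3 ∣ N / 9)
    (h5 : ∀ p : ℕ, p.Prime → 5 ≤ p → ∃ r : G, ¬ p ∣ N / orderOf r)
    {Γ : Type*} [Group Γ] [Finite Γ] (σ : Γ →* G) (hσ : Cfsg.IsStemExtension σ) :
    ∃ π : Multiplicative (ZMod 6) →* σ.ker, Function.Surjective π := by
  refine exists_surj_six hσ ?_ ?_ ?_
  · refine Schur.exists_bound_of_dihedral hσ Nat.prime_two r₂ s₂ ?_
      (not_dvd_index hN (card_closure_pair hr₂ hs₂ (by norm_num) (by norm_num) hrs₂ hi₂) (by norm_num) h2)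
    rw [hrs₂, mul_inv_cancel_right]
    exact (inv_eq_of_mul_eq_one_right (by rw [← pow_succ', hr₂])).symm
  · exact exists_bound_of_commuting hσ Nat.prime_three r₃ s₃ hrs₃ hr₃
      (not_dvd_index hN (card_closure_pair hr₃ hs₃ (by norm_num) (by norm_num)
        (by rw [pow_one, hrs₃]) hi₃) (by norm_num) h3)
  · intro p hp hp5 k z hz hzk
    obtain ⟨r, hr⟩ := h5 p hp hp5
    exact Schur.eq_one_of_cyclic hσ hp r
      (not_dvd_index hN (Nat.card_zpowers r) (orderOf_pos r) hr) hz hzk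

theorem exists_surj_alt (n : ℕ) (hn : n = 6 ∨ n = 7) {Γ : Type u} [Group Γ] [Finite Γ]
    (σ : Γ →* alternatingGroup (Fin n)) (hσ : Cfsg.IsStemExtension σ) :
    ∃ π : Multiplicative (ZMod 6) →* σ.ker, Function.Surjective π := by
  rcases hn with rfl | rfl
  · refine exists_surj_of_data card_alt_six
      (alt (Equiv.swap 0 1 * Equiv.swap 1 2 * Equiv.swap 2 3 * Equiv.swap 4 5) (by decide +kernel))
      (alt (Equiv.swap 1 3 * Equiv.swap 4 5) (by decide +kernel))
      (alt (Equiv.swap 0 1 * Equiv.swap 1 2) (by decide +kernel))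
      (alt (Equiv.swap 3 4 * Equiv.swap 4 5) (by decide +kernel))
      (by decide +kernel) (by decide +kernel) (by decide +kernel) (by decide +kernel) (by decide)
      (by decide +kernel) (by decide +kernel) (by decide +kernel) (by decide +kernel) (by decide)
      (fun p hp h5 => ?_) σ hσ
    by_cases hp' : p = 5
    · subst hp'
      haveI := Fact.mk hp
      refine ⟨alt (Equiv.swap 0 1 * Equiv.swap 1 2 * Equiv.swap 2 3 * Equiv.swap 3 4) (by decide +kernel), ?_⟩
      rw [orderOf_eq_prime (p := 5) (by decide +kernel) (by decide +kernel)]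
      decide
    · refine ⟨1, fun h => ?_⟩
      rw [orderOf_one, Nat.div_one, show 360 = 2 ^ 3 * (3 ^ 2 * 5) from rfl] at h
      rcases hp.dvd_mul.1 h with h | h
      · have := Nat.le_of_dvd (by norm_num) (hp.dvd_of_dvd_pow h); omega
      rcases hp.dvd_mul.1 h with h | h
      · have := Nat.le_of_dvd (by norm_num) (hp.dvd_of_dvd_pow h); omega
      · exact hp' ((Nat.prime_dvd_prime_iff_eq hp (by norm_num)).1 h)
  · refine exists_surj_of_data card_alt_seven
      (alt (Equiv.swap 0 1 * Equiv.swap 1 2 * Equiv.swap 2 3 * Equiv.swap 4 5) (by decide +kernel))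
      (alt (Equiv.swap 1 3 * Equiv.swap 4 5) (by decide +kernel))
      (alt (Equiv.swap 0 1 * Equiv.swap 1 2) (by decide +kernel))
      (alt (Equiv.swap 3 4 * Equiv.swap 4 5) (by decide +kernel))
      (by decide +kernel) (by decide +kernel) (by decide +kernel) (by decide +kernel) (by decide)
      (by decide +kernel) (by decide +kernel) (by decide +kernel) (by decide +kernel) (by decide)
      (fun p hp h5 => ?_) σ hσ
    by_cases hp' : p = 5
    · subst hp'
      haveI := Fact.mk hp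
      refine ⟨alt (Equiv.swap 0 1 * Equiv.swap 1 2 * Equiv.swap 2 3 * Equiv.swap 3 4) (by decide +kernel), ?_⟩
      rw [orderOf_eq_prime (p := 5) (by decide +kernel) (by decide +kernel)]
      decide
    by_cases hp'' : p = 7
    · subst hp''
      haveI := Fact.mk hp
      refine ⟨alt (Equiv.swap 0 1 * Equiv.swap 1 2 * Equiv.swap 2 3 * Equiv.swap 3 4 * Equiv.swap 4 5 *
        Equiv.swap 5 6) (by decide +kernel), ?_⟩
      rw [orderOf_eq_prime (p := 7) (by decide +kernel) (by decide +kernel)]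
      decide
    · refine ⟨1, fun h => ?_⟩
      rw [orderOf_one, Nat.div_one, show 2520 = 2 ^ 3 * (3 ^ 2 * (5 * 7)) from rfl] at h
      rcases hp.dvd_mul.1 h with h | h
      · have := Nat.le_of_dvd (by norm_num) (hp.dvd_of_dvd_pow h); omega
      rcases hp.dvd_mul.1 h with h | h
      · have := Nat.le_of_dvd (by norm_num) (hp.dvd_of_dvd_pow h); omega
      rcases hp.dvd_mul.1 h with h | h
      · exact hp' ((Nat.prime_dvd_prime_iff_eq hp (by norm_num)).1 h)
      · exact hp'' ((Nat.prime_dvd_prime_iff_eq hp (by norm_num)).1 h)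

/-- The fibre product of the double and the triple cover. -/
theorem exists_six_cover (n : ℕ) (hn : n = 6 ∨ n = 7) :
    ∃ (Γ : Type) (_ : Group Γ) (_ : Finite Γ) (σ : Γ →* alternatingGroup (Fin n)),
      Cfsg.IsStemExtension σ ∧ Nat.card σ.ker = 6 := by
  obtain ⟨Γ₂, _, _, σ₂, hσ₂, hc₂⟩ := exists_triple_cover n hn
  let σ₁ := DoubleCoverAlt.proj n
  have hker1 : σ₁.ker = Subgroup.zpowers (DoubleCoverAlt.negOne n) := by
    refine le_antisymm (fun p hp => ?_) (Subgroup.zpowers_le.mpr ((DoubleCoverAlt.mem_ker_proj_iff n _).mpr (Or.inr rfl)))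
    rcases (DoubleCoverAlt.mem_ker_proj_iff n p).mp hp with rfl | rfl
    · exact one_mem _
    · exact Subgroup.mem_zpowers _
  have hσ₁ : Cfsg.IsStemExtension σ₁ := by
    refine ⟨DoubleCoverAlt.proj_surjective n, ?_, ?_⟩ <;> rw [hker1, Subgroup.zpowers_le]
    · exact DoubleCoverAlt.negOne_mem_center n
    · exact DoubleCoverAlt.negOne_mem_commutator n (by omega)
  have hc₁ : Nat.card σ₁.ker = 2 := by
    rw [hker1, Nat.card_zpowers, DoubleCoverAlt.orderOf_negOne]
  let σ : Fib σ₁ σ₂ →* alternatingGroup (Fin n) :=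
    (σ₁.comp (MonoidHom.fst _ _)).comp (Fib σ₁ σ₂).subtype
  have hk2 : ∀ x : Fib σ₁ σ₂, x ∈ σ.ker → x.1.2 ∈ σ₂.ker := fun x hx => by
    rw [MonoidHom.mem_ker, ← (mem_fib σ₁ σ₂).1 x.2]
    exact hx
  refine ⟨Fib σ₁ σ₂, inferInstance, inferInstance, σ, ⟨?_, ?_, ?_⟩, ?_⟩
  · intro g
    obtain ⟨a, ha⟩ := hσ₁.1 g
    obtain ⟨b, hb⟩ := hσ₂.1 g
    exact ⟨⟨(a, b), ha.trans hb.symm⟩, ha⟩
  · exact fun x hx => Subgroup.mem_center_iff.2 fun g => Subtype.ext (Prod.ext
      ((Subgroup.mem_center_iff.1 (hσ₁.2.1 (show x.1.1 ∈ σ₁.ker from hx))) g.1.1)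
      ((Subgroup.mem_center_iff.1 (hσ₂.2.1 (hk2 x hx))) g.1.2))
  · intro x hx
    have h1 := mem_commutator_fib σ₁ σ₂ hσ₁ hσ₂.1 (by rw [hc₁, hc₂]; decide)
      (show x.1.1 ∈ σ₁.ker from hx)
    have h2 := mem_commutator_fib σ₂ σ₁ hσ₂ hσ₁.1 (by rw [hc₁, hc₂]; decide) (hk2 x hx)
    let sw : Fib σ₂ σ₁ →* Fib σ₁ σ₂ :=
      { toFun := fun y => ⟨(y.1.2, y.1.1), y.2.symm⟩
        map_one' := rfl
        map_mul' := fun _ _ => rfl }
    have h3 : sw ⟨(x.1.2, 1), (mem_fib σ₂ σ₁).2 (by rw [map_one]; exact hk2 x hx)⟩ ∈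
        commutator (Fib σ₁ σ₂) := by
      have hmap : (commutator (Fib σ₂ σ₁)).map sw ≤ commutator (Fib σ₁ σ₂) := by
        rw [commutator_def, Subgroup.map_commutator]
        exact Subgroup.commutator_mono le_top le_top
      exact hmap ⟨_, h2, rfl⟩
    convert mul_mem h1 h3 using 1
    exact Subtype.ext (Prod.ext (mul_one _).symm (one_mul _).symm)
  · let e : σ.ker ≃ σ₁.ker × σ₂.ker :=
      { toFun := fun x => (⟨x.1.1.1, x.2⟩, ⟨x.1.1.2, hk2 x.1 x.2⟩)
        invFun := fun y => ⟨⟨(y.1.1, y.2.1), (mem_fib σ₁ σ₂).2 (by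
          rw [(MonoidHom.mem_ker).1 y.1.2, (MonoidHom.mem_ker).1 y.2.2])⟩, y.1.2⟩
        left_inv := fun x => rfl
        right_inv := fun y => rfl }
    rw [Nat.card_congr e, Nat.card_prod, hc₁, hc₂]

theorem hasCyclicSchurMultiplier_six (n : ℕ) (hn : n = 6 ∨ n = 7) :
    Cfsg.HasCyclicSchurMultiplier (alternatingGroup (Fin n)) 6 := by
  refine ⟨?_, fun Γ _ _ σ hσ => exists_surj_alt n hn σ hσ⟩
  obtain ⟨Γ, _, _, σ, hσ, hc⟩ := exists_six_cover n hn
  obtain ⟨π, hπ⟩ := exists_surj_alt n hn σ hσ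
  have hbij : Function.Bijective π := (Nat.bijective_iff_surjective_and_card π).2
    ⟨hπ, by rw [hc, Nat.card_congr Multiplicative.toAdd, Nat.card_zmod]⟩
  exact ⟨Γ, inferInstance, inferInstance, σ, hσ, ⟨(MulEquiv.ofBijective π hbij).symm⟩⟩

end Cfsg.Agent.CoverSixSeven
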